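import Groth.Prelude.Def_FSch3
import Groth.Agent.Divis.IdealComap
import Mathlib.AlgebraicGeometry.Noetherian

/-!
# Basic facts on systems of thickenings

* `isClosedImmersion_toX`: the composites `X 0 ⟶ X n` of a formal system are closed immersions.
* `comap_ker_comp`: for a monomorphism `f` and `g ≫ f` a closed immersion, the inverse image along `f` of the
  kernel ideal of `g ≫ f` is the kernel ideal of `g`.
* `ker_toX_pow_eq_bot`: in an adic formal system, `(ker (X 0 ⟶ X n))^(n+1) = 0`.
-/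

set_option autoImplicit false
universe u

open CategoryTheory CategoryTheory.Limits AlgebraicGeometry

namespace Groth.Agent.Fcompl.H545.SysBasic

/-- The kernel of the base change of a closed immersion is the inverse image of the kernel. -/
lemma ker_fst_of_isPullback {P X Y Z : Scheme.{u}} {p : P ⟶ X} {q : P ⟶ Z} {f : X ⟶ Y} {i : Z ⟶ Y}
    (sq : IsPullback p q f i) [IsClosedImmersion i] : p.ker = i.ker.comap f := by
  rw [← Scheme.IdealSheafData.ker_fst_of_isClosedImmersion, ← sq.isoPullback_hom_fst,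
    Scheme.Hom.ker_comp_of_isIso]

/-- The inverse image along a monomorphism `f` of the kernel ideal of a closed immersion `g ≫ f` is the kernel
ideal of `g`. -/
lemma comap_ker_comp {X Y Z : Scheme.{u}} (g : X ⟶ Y) (f : Y ⟶ Z) [Mono f] [IsClosedImmersion (g ≫ f)] :
    (g ≫ f).ker.comap f = g.ker := by
  refine (ker_fst_of_isPullback (p := g) (q := 𝟙 X) (f := f) (i := g ≫ f) ?_).symm
  refine ⟨⟨by rw [Category.id_comp]⟩, ⟨PullbackCone.IsLimit.mk _ (fun s => s.snd) (fun s => ?_) (fun s => ?_)
    (fun s m _ h => ?_)⟩⟩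
  · rw [← cancel_mono f, Category.assoc, s.condition]
  · rw [Category.comp_id]
  · rw [← h, Category.comp_id]

variable (𝔛 : FSch.Sys.{u})

/-- The composite maps of a formal system are closed immersions. -/
lemma isClosedImmersion_toX (h𝔛 : 𝔛.IsFormal) (n : ℕ) : IsClosedImmersion (𝔛.toX n) := by
  induction n with
  | zero => exact inferInstanceAs (IsClosedImmersion (𝟙 _))
  | succ n ih =>
    have := (h𝔛 n).1
    exact inferInstanceAs (IsClosedImmersion (𝔛.toX n ≫ 𝔛.ι n))

/-- The inverse image on `X n` of the ideal of `X 0` in `X (n+1)` is the ideal of `X 0` in `X n`. -/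
lemma comap_ker_toX_succ (h𝔛 : 𝔛.IsFormal) (n : ℕ) :
    (𝔛.toX (n + 1)).ker.comap (𝔛.ι n) = (𝔛.toX n).ker := by
  have h1 := isClosedImmersion_toX 𝔛 h𝔛 (n + 1)
  have h2 := (h𝔛 n).1
  change IsClosedImmersion (𝔛.toX n ≫ 𝔛.ι n) at h1
  exact comap_ker_comp (𝔛.toX n) (𝔛.ι n)

/-- The inverse image of the kernel ideal of a closed immersion along that closed immersion is zero. -/
lemma comap_ker_self {X Y : Scheme.{u}} (f : X ⟶ Y) [IsClosedImmersion f] : f.ker.comap f = ⊥ := by
  have h := comap_ker_comp (𝟙 X) f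
  rw [Category.id_comp] at h
  rw [h, Scheme.Hom.ker_eq_bot_of_isIso]

/-- In an adic formal system the ideal of `X 0` in `X n` has vanishing `(n+1)`-st power. -/
lemma ker_toX_pow_eq_bot (h𝔛 : 𝔛.IsFormal) (hA : 𝔛.IsAdic) (n : ℕ) :
    (𝔛.toX n).ker ^ (n + 1) = ⊥ := by
  have h2 := (h𝔛 n).1
  rw [← comap_ker_toX_succ 𝔛 h𝔛 n, ← Groth.Agent.Divis.IdealComap.comap_pow, ← hA n, comap_ker_self]

end Groth.Agent.Fcompl.H545.SysBasic
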